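import Cfsg.Agent.Lib.Helper11.Fi24e3.D0
import Cfsg.Agent.Lib.Helper11.Words

set_option autoImplicit false
set_option maxRecDepth 100000

namespace Cfsg.Agent.Lib.Helper11.Fi24e3

noncomputable def fc (i : ℕ) : ℕ := fc0_0 i
noncomputable def sc (i : ℕ) : ℕ := sc0_0 i
noncomputable def nc (i : ℕ) : ℕ := nc0_0 i
noncomputable def cc (i : ℕ) : ℕ := cc0_0 i

noncomputable def INV : ℕ := 9043225708576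
def isH (l : ℕ) : Bool := decide (l ∈ [2, 3, 4, 5, 6, 8])
def gens : List ℕ := [1, 2, 3, 4, 5, 6, 7, 8]
def rt : RT := (.node 19 (.node 8 (.node 4 (.node 2 (.node 1 (.leaf 24 0 [2, 8, 2, 8]) (.leaf 48 0 [5, 8, 5, 8])) (.node 3 (.leaf 56 0 [6, 8, 6, 8]) (.leaf 64 0 [7, 8, 7, 8]))) (.node 6 (.node 5 (.leaf 32 0 [3, 8, 3, 8]) (.leaf 39 1 [7, 4, 7, 4])) (.node 7 (.leaf 47 1 [7, 5, 7, 5]) (.leaf 48 1 [8, 5, 8, 5])))) (.node 14 (.node 11 (.node 10 (.node 9 (.leaf 20 0 [2, 4, 2, 4]) (.leaf 38 1 [6, 4, 6, 4])) (.leaf 21 0 [2, 5, 2, 5])) (.node 13 (.node 12 (.leaf 29 0 [3, 5, 3, 5]) (.leaf 23 0 [2, 7, 2, 7])) (.leaf 31 0 [3, 7, 3, 7]))) (.node 17 (.node 16 (.node 15 (.leaf 39 0 [4, 7, 4, 7]) (.leaf 47 0 [5, 7, 5, 7])) (.leaf 22 0 [2, 6, 2, 6])) (.node 18 (.leaf 30 0 [3, 6, 3, 6])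 (.leaf 38 0 [4, 6, 4, 6]))))) (.node 32 (.node 26 (.node 23 (.node 21 (.node 20 (.leaf 37 1 [5, 4, 5, 4, 5, 4]) (.leaf 28 1 [4, 3, 4, 3, 4, 3])) (.node 22 (.leaf 40 0 [4, 8, 4, 8, 4, 8]) (.leaf 16 0 [1, 8, 1, 8]))) (.node 25 (.node 24 (.leaf 40 1 [8, 4, 8, 4, 8, 4]) (.leaf 64 1 [8, 7, 8, 7])) (.leaf 56 1 [8, 6, 8, 6]))) (.node 29 (.node 28 (.node 27 (.leaf 46 1 [6, 5, 6, 5, 6, 5]) (.leaf 12 0 [1, 4, 1, 4])) (.leaf 30 1 [6, 3, 6, 3])) (.node 31 (.node 30 (.leaf 31 1 [7, 3, 7, 3]) (.leaf 37 0 [4, 5, 4, 5, 4, 5])) (.leaf 46 0 [5, 6, 5, 6, 5, 6])))) (.node 40 (.node 36 (.node 34 (.node 33 (.leaf 55 0 [6, 7, 6, 7, 6, 7]) (.leaf 13 0 [1, 5, 1, 5])) (.node 35 (.leaf 29 1 [5, 3, 5, 3]) (.leaf 20 1 [4, 2, 4, 2]))) (.node 38 (.node 37 (.leaf 19 1 [3, 2, 3, 2, 3, 2]) (.leaf 28 0 [3,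 4, 3, 4, 3, 4])) (.node 39 (.leaf 32 1 [8, 3, 8, 3]) (.leaf 15 0 [1, 7, 1, 7])))) (.node 45 (.node 43 (.node 42 (.node 41 (.leaf 14 0 [1, 6, 1, 6]) (.leaf 11 0 [1, 3, 1, 3])) (.leaf 21 1 [5, 2, 5, 2])) (.node 44 (.leaf 22 1 [6, 2, 6, 2]) (.leaf 23 1 [7, 2, 7, 2]))) (.node 49 (.node 47 (.node 46 (.leaf 24 1 [8, 2, 8, 2]) (.leaf 55 1 [7, 6, 7, 6, 7, 6])) (.node 48 (.leaf 10 0 [1, 2, 1, 2]) (.leaf 19 0 [2, 3, 2, 3, 2, 3]))) (.node 53 (.node 51 (.node 50 (.leaf 0 0 []) (.leaf 10 1 [2, 1, 2, 1])) (.node 52 (.leaf 11 1 [3, 1, 3, 1]) (.leaf 12 1 [4, 1, 4, 1]))) (.node 55 (.node 54 (.leaf 13 1 [5, 1, 5, 1]) (.leaf 14 1 [6, 1, 6, 1])) (.leaf 16 1 [8, 1, 8, 1]))))))))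


end Cfsg.Agent.Lib.Helper11.Fi24e3
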